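import Groth.Agent.H2.Chars
import Mathlib.Algebra.Polynomial.Eval.Defs
import Mathlib.RingTheory.Polynomial.Quotient
import Mathlib.RingTheory.Ideal.Quotient.Operations

/-!
# Natural families of values on the characters of the additive group (algebra)

`IsGL P`: `P` is a polynomial character of the additive group. `Fam A`: a multiplicative natural
value `φ f P` on characters over all `A`-algebras. `theta` is the induced endomorphism.
-/

set_option autoImplicit false

universe u

open Polynomial

namespace Groth.Agent.Lib.GaBidual62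

open Groth.Agent.H2.Chars (texp texp_map texp_zero texp_add)

variable {B B₂ : Type u} [CommRing B] [CommRing B₂]

/-- Polynomial characters of the additive group. -/
def IsGL (P : B[X]) : Prop :=
  P.eval 0 = 1 ∧ ∀ (D : Type u) [CommRing D] (g : B →+* D) (x y : D),
    P.eval₂ g (x + y) = P.eval₂ g x * P.eval₂ g y

theorem IsGL.coeff_eq {P : B[X]} (h : IsGL P) :
    P.coeff 0 = 1 ∧ ∀ i j, ((i + j).choose i : B) * P.coeff (i + j) = P.coeff i * P.coeff j :=
  ⟨coeff_zero_eq_eval_zero P ▸ h.1, (Groth.Agent.H2.Chars.poly_iff P).1 (by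
    obtain ⟨e⟩ : Nonempty (ULift.{u} (Fin 2) ≃ Fin 2) := ⟨Equiv.ulift⟩
    have h2 := h.2 (MvPolynomial (ULift.{u} (Fin 2)) B) MvPolynomial.C (MvPolynomial.X (e.symm 0))
      (MvPolynomial.X (e.symm 1))
    have h3 := congrArg (MvPolynomial.rename e) h2
    rw [map_mul] at h3
    simp only [← AlgHom.coe_toRingHom, hom_eval₂] at h3
    simp only [RingHom.coe_coe, map_add, MvPolynomial.rename_X, Equiv.apply_symm_apply] at h3
    have hc : ((MvPolynomial.rename e : MvPolynomial (ULift.{u} (Fin 2)) B →ₐ[B] MvPolynomial (Fin 2) B) :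
        MvPolynomial (ULift.{u} (Fin 2)) B →+* MvPolynomial (Fin 2) B).comp MvPolynomial.C = MvPolynomial.C := by
      ext b; simp
    simpa [hc, aeval_def, MvPolynomial.algebraMap_eq] using h3)⟩

theorem IsGL.map {P : B[X]} (h : IsGL P) (g : B →+* B₂) : IsGL (P.map g) := by
  refine ⟨by rw [← map_zero g, eval_map_apply, h.1, map_one], fun D _ g' x y => ?_⟩
  simp only [eval₂_map]
  exact h.2 D _ x y

theorem IsGL.mul {P Q : B[X]} (h : IsGL P) (h' : IsGL Q) : IsGL (P * Q) := by
  refine ⟨by rw [eval_mul, h.1, h'.1, one_mul], fun D _ g x y => ?_⟩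
  simp only [eval₂_mul, h.2 D g x y, h'.2 D g x y]
  ring

theorem IsGL.one : IsGL (1 : B[X]) := ⟨eval_one, fun D _ g x y => by simp⟩

theorem IsGL.prod {ι : Type*} (s : Finset ι) (P : ι → B[X]) (h : ∀ i ∈ s, IsGL (P i)) :
    IsGL (∏ i ∈ s, P i) :=
  Finset.prod_induction P IsGL (fun _ _ => IsGL.mul) IsGL.one h

/-- Substitute `a X` for `X`. -/
noncomputable def scale (a : B) (P : B[X]) : B[X] := P.comp (C a * X)

theorem scale_map (g : B →+* B₂) (a : B) (P : B[X]) : (scale a P).map g = scale (g a) (P.map g) := by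
  simp [scale, map_comp]

theorem scale_mul (a : B) (P Q : B[X]) : scale a (P * Q) = scale a P * scale a Q := mul_comp _ _ _

theorem scale_prod {ι : Type*} (a : B) (s : Finset ι) (P : ι → B[X]) :
    scale a (∏ i ∈ s, P i) = ∏ i ∈ s, scale a (P i) := prod_comp _ _ _

theorem scale_scale (a b : B) (P : B[X]) : scale a (scale b P) = scale (b * a) P := by
  simp only [scale, comp_assoc, mul_comp, C_comp, X_comp, map_mul]
  ring_nf

theorem scale_one (P : B[X]) : scale 1 P = P := by simp [scale]

theorem coeff_scale (a : B) (P : B[X]) (n : ℕ) : (scale a P).coeff n = a ^ n * P.coeff n := by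
  induction P using Polynomial.induction_on' with
  | add p q hp hq => simp only [scale, add_comp, coeff_add] at *; rw [hp, hq, mul_add]
  | monomial m b =>
    simp only [scale, monomial_comp, mul_pow, ← C_pow, ← mul_assoc, ← C_mul, coeff_C_mul_X_pow,
      coeff_monomial]
    by_cases h : n = m
    · subst h; simp [mul_comm]
    · simp [h, Ne.symm h]

theorem eval₂_scale (g : B →+* B₂) (a : B) (x : B₂) (P : B[X]) :
    (scale a P).eval₂ g x = P.eval₂ g (g a * x) := by
  simp [scale, eval₂_comp]

theorem IsGL.scale {P : B[X]} (h : IsGL P) (a : B) : IsGL (scale a P) := by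
  refine ⟨?_, fun D _ g x y => ?_⟩
  · rw [GaBidual62.scale, eval_comp]; simpa using h.1
  · simp only [eval₂_scale, mul_add]
    exact h.2 D g _ _

theorem IsGL.scale_add {P : B[X]} (h : IsGL P) (x y : B) :
    GaBidual62.scale (x + y) P = GaBidual62.scale x P * GaBidual62.scale y P := by
  simp only [GaBidual62.scale, comp, map_add, add_mul]
  exact h.2 B[X] C _ _

theorem IsGL.scale_zero {P : B[X]} (h : IsGL P) : GaBidual62.scale 0 P = 1 := by
  ext n
  rw [coeff_scale, coeff_one]
  rcases n with - | n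
  · simp [h.coeff_eq.1]
  · simp

/-- A natural multiplicative family of values on characters over `A`-algebras. -/
structure Fam (A : Type u) [CommRing A] where
  val : ∀ {B : Type u} [CommRing B], (A →+* B) → B[X] → B
  nat : ∀ {B B' : Type u} [CommRing B] [CommRing B'] (f : A →+* B) (g : B →+* B') (P : B[X]),
    IsGL P → val (g.comp f) (P.map g) = g (val f P)
  mul : ∀ {B : Type u} [CommRing B] (f : A →+* B) (P Q : B[X]),
    IsGL P → IsGL Q → val f (P * Q) = val f P * val f Q
  one : ∀ {B : Type u} [CommRing B] (f : A →+* B), val f 1 = 1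

variable {A : Type u} [CommRing A] (φ : Fam A)

/-- The endomorphism of the characters induced by a family. -/
noncomputable def theta (f : A →+* B) (P : B[X]) : B[X] :=
  φ.val ((C).comp f) (scale X (P.map C))

theorem theta_eval₂ (f : A →+* B) {P : B[X]} (h : IsGL P) (g : B →+* B₂) (t : B₂) :
    (theta φ f P).eval₂ g t = φ.val (g.comp f) (scale t (P.map g)) := by
  have hg : (eval₂RingHom g t).comp Polynomial.C = g := by ext b; simp
  have h' := φ.nat ((Polynomial.C).comp f) (eval₂RingHom g t) (GaBidual62.scale X (P.map Polynomial.C))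
    ((h.map _).scale _)
  rw [scale_map, Polynomial.map_map, hg, ← RingHom.comp_assoc, hg, coe_eval₂RingHom, eval₂_X] at h'
  exact h'.symm

theorem theta_eval_one (f : A →+* B) {P : B[X]} (h : IsGL P) : (theta φ f P).eval 1 = φ.val f P := by
  rw [eval, theta_eval₂ φ f h, Polynomial.map_id, scale_one]
  rfl

theorem IsGL.theta (f : A →+* B) {P : B[X]} (h : IsGL P) : IsGL (GaBidual62.theta φ f P) := by
  refine ⟨?_, fun D _ g x y => ?_⟩
  · rw [eval, theta_eval₂ φ f h, Polynomial.map_id, h.scale_zero, φ.one]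
  · simp only [theta_eval₂ φ f h]
    rw [(h.map g).scale_add, φ.mul _ _ _ ((h.map g).scale _) ((h.map g).scale _)]

theorem theta_mul (f : A →+* B) {P Q : B[X]} (h : IsGL P) (h' : IsGL Q) :
    theta φ f (P * Q) = theta φ f P * theta φ f Q := by
  rw [theta, Polynomial.map_mul, scale_mul]
  exact φ.mul _ _ _ ((h.map _).scale _) ((h'.map _).scale _)

theorem theta_one (f : A →+* B) : theta φ f 1 = 1 := by
  rw [theta, Polynomial.map_one]
  simp [scale, φ.one]

theorem theta_prod (f : A →+* B) {ι : Type*} (s : Finset ι) (P : ι → B[X]) (h : ∀ i, IsGL (P i)) :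
    theta φ f (∏ i ∈ s, P i) = ∏ i ∈ s, theta φ f (P i) := by
  classical
  induction s using Finset.induction with
  | empty => simp [theta_one]
  | insert i s hi ih =>
    rw [Finset.prod_insert hi, Finset.prod_insert hi, theta_mul φ f (h i) (IsGL.prod _ _ fun j _ => h j), ih]

theorem theta_map (f : A →+* B) (g : B →+* B₂) {P : B[X]} (h : IsGL P) :
    (theta φ f P).map g = theta φ (g.comp f) (P.map g) := by
  change (theta φ f P).eval₂ ((C).comp g) X = _
  rw [theta_eval₂ φ f h, theta, Polynomial.map_map, RingHom.comp_assoc]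

theorem theta_scale (f : A →+* B) {P : B[X]} (h : IsGL P) (a : B) :
    theta φ f (scale a P) = scale a (theta φ f P) := by
  change _ = (theta φ f P).eval₂ C (C a * X)
  rw [theta_eval₂ φ f h, theta, scale_map, scale_scale]

theorem coeff_theta_scale (f : A →+* B) {P : B[X]} (h : IsGL P) (a : B) (n : ℕ) :
    (theta φ f (scale a P)).coeff n = a ^ n * (theta φ f P).coeff n := by
  rw [theta_scale φ f h, coeff_scale]

/-! ### Truncated exponentials -/

/-- `∑_{j<n} (t X^q)^j / j!`. -/
noncomputable def E (n q : ℕ) (t : B) : B[X] := texp n (C t * X ^ q)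

variable {n q : ℕ}

theorem coeff_E (hB : ∀ j < n, IsUnit (j.factorial : B)) (t : B) (k : ℕ) :
    (E n q t).coeff k = ∑ j ∈ Finset.range n, if k = j * q then Ring.inverse (j.factorial : B) * t ^ j else 0 := by
  rw [E, texp, finsetSum_coeff]
  refine Finset.sum_congr rfl fun j hj => ?_
  rw [mul_pow, ← pow_mul, mul_comm q j, ← C_pow, ← mul_assoc,
    ← map_natCast (Polynomial.C : B →+* B[X]), ← Groth.Agent.H2.Chars.inverse_map _ (hB j (Finset.mem_range.1 hj)),
    ← C_mul, coeff_C_mul_X_pow]

theorem E_map (hB : ∀ j < n, IsUnit (j.factorial : B)) (g : B →+* B₂) (t : B) :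
    (E n q t).map g = E n q (g t) := by
  rw [E, E, ← coe_mapRingHom, texp_map (mapRingHom g) (fun j hj => ?_)]
  · simp
  · simpa using (hB j hj).map (Polynomial.C : B →+* B[X])

theorem eval₂_E (hB : ∀ j < n, IsUnit (j.factorial : B)) (g : B →+* B₂) (t : B) (x : B₂) :
    (E n q t).eval₂ g x = texp n (g t * x ^ q) := by
  rw [E, ← coe_eval₂RingHom, texp_map (eval₂RingHom g x) (fun j hj => ?_)]
  · simp
  · simpa using (hB j hj).map (Polynomial.C : B →+* B[X])

theorem scale_E (hB : ∀ j < n, IsUnit (j.factorial : B)) (a t : B) :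
    scale a (E n q t) = E n q (a ^ q * t) := by
  change (E n q t).eval₂ C (C a * X) = _
  rw [eval₂_E hB, E, mul_pow, C_mul, C_pow]
  congr 1
  ring

theorem GL_E (hB : ∀ j < n, IsUnit (j.factorial : B)) (hn : 0 < n) (hq : 0 < q)
    (hadd : ∀ (D : Type u) [CommRing D] (_ : B →+* D) (x y : D), (x + y) ^ q = x ^ q + y ^ q)
    {t : B} (ht : t ^ n = 0) : IsGL (E n q t) := by
  refine ⟨?_, fun D _ g x y => ?_⟩
  · rw [eval, eval₂_E hB, zero_pow hq.ne', mul_zero, texp_zero hn]
  · simp only [eval₂_E hB]
    rw [hadd D g, mul_add]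
    refine texp_add (fun j hj => by simpa using (hB j hj).map g) _ _ fun i _ j _ hij => ?_
    rw [mul_pow, mul_pow, mul_mul_mul_comm, ← pow_add, ← map_pow, pow_eq_zero_of_le hij ht,
      map_zero, zero_mul]

/-! ### The ring `A[ε]/(ε^n)` -/

/-- `A[ε]/(ε^n)`. -/
abbrev En (A : Type u) [CommRing A] (n : ℕ) : Type u :=
  A[X] ⧸ Ideal.span ({X ^ n} : Set A[X])

variable (A) in
/-- The structure map. -/
noncomputable def enC (n : ℕ) : A →+* En A n := (Ideal.Quotient.mk _).comp C

variable (A) in
/-- `ε`. -/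
noncomputable def eps (n : ℕ) : En A n := Ideal.Quotient.mk _ X

theorem eps_pow (n : ℕ) : eps A n ^ n = 0 := by
  rw [eps, ← map_pow, Ideal.Quotient.eq_zero_iff_mem]
  exact Ideal.subset_span rfl

/-- The map out of `A[ε]/(ε^n)`. -/
noncomputable def enLift (f : A →+* B₂) (t : B₂) (ht : t ^ n = 0) : En A n →+* B₂ :=
  Ideal.Quotient.lift _ (eval₂RingHom f t) fun x hx => by
    obtain ⟨y, rfl⟩ := Ideal.mem_span_singleton'.1 hx
    simp [ht]

theorem enLift_comp (f : A →+* B₂) (t : B₂) (ht : t ^ n = 0) : (enLift f t ht).comp (enC A n) = f := by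
  ext a; simp [enLift, enC]

theorem enLift_eps (f : A →+* B₂) (t : B₂) (ht : t ^ n = 0) : enLift f t ht (eps A n) = t := by
  simp [enLift, eps]

theorem enC_mul_eps_pow_inj {i : ℕ} (hi : i < n) {a : A} (h : enC A n a * eps A n ^ i = 0) : a = 0 := by
  rw [enC, eps, RingHom.comp_apply, ← map_pow, ← map_mul, Ideal.Quotient.eq_zero_iff_mem,
    Ideal.mem_span_singleton, X_pow_dvd_iff] at h
  simpa [coeff_C_mul_X_pow] using h i hi

theorem en_repr (hn : 0 < n) (b : En A n) : ∃ p : A[X], p.natDegree < n ∧
    b = ∑ i ∈ Finset.range n, enC A n (p.coeff i) * eps A n ^ i := by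
  rcases subsingleton_or_nontrivial A with hA | hA
  · have : Subsingleton (En A n) := Function.Surjective.subsingleton Ideal.Quotient.mk_surjective
    exact ⟨0, by simpa, Subsingleton.elim _ _⟩
  obtain ⟨p, rfl⟩ := Ideal.Quotient.mk_surjective b
  refine ⟨p %ₘ X ^ n, ?_, ?_⟩
  · simpa using natDegree_modByMonic_lt p (monic_X_pow n) (fun h => by simpa [hn.ne'] using congrArg natDegree h)
  · have hmem : p - p %ₘ X ^ n ∈ Ideal.span ({X ^ n} : Set A[X]) :=
      Ideal.mem_span_singleton'.2 ⟨p /ₘ X ^ n, by linear_combination modByMonic_add_div p (X ^ n)⟩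
    rw [(Ideal.Quotient.mk_eq_mk_iff_sub_mem p (p %ₘ X ^ n)).2 hmem]
    conv_lhs => rw [as_sum_range' (p %ₘ X ^ n) n (by
      simpa using natDegree_modByMonic_lt p (monic_X_pow n) (fun h => by simpa [hn.ne'] using congrArg natDegree h))]
    simp [enC, eps, ← C_mul_X_pow_eq_monomial]

/-- Homogeneous natural coefficients are linear. -/
theorem exists_lin (hA : ∀ j < n, IsUnit (j.factorial : A)) (hn : 1 < n) (hq : 0 < q)
    (hadd : ∀ (D : Type u) [CommRing D] (_ : A →+* D) (x y : D), (x + y) ^ q = x ^ q + y ^ q) (m : ℕ) :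
    ∃ c : A, ((∀ i < n, q * i ≠ m) → c = 0) ∧ ((∀ i < n, q * i = m → i = 1) →
      ∀ (B : Type u) [CommRing B] (f : A →+* B) (t : B), t ^ n = 0 →
        (theta φ f (E n q t)).coeff m = f c * t) := by
  classical
  have hu : ∀ {D : Type u} [CommRing D] (f : A →+* D), ∀ j < n, IsUnit (j.factorial : D) :=
    fun f j hj => by simpa using (hA j hj).map f
  have hgl : ∀ {D : Type u} [CommRing D] (f : A →+* D) {t : D}, t ^ n = 0 → IsGL (E n q t) :=
    fun f t ht => GL_E (hu f) (by omega) hq (fun D' _ g => hadd D' (g.comp f)) ht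
  let b := (theta φ (enC A n) (E n q (eps A n))).coeff m
  obtain ⟨p, -, hp⟩ := en_repr (by omega) b
  -- homogeneity in a polynomial variable
  let ε' : (En A n)[X] := X ^ q * C (eps A n)
  have hε' : ε' ^ n = 0 := by
    change ((X : (En A n)[X]) ^ q * C (eps A n)) ^ n = 0
    refine (mul_pow ((X : (En A n)[X]) ^ q) (C (eps A n)) n).trans ?_
    refine (congrArg (_ * ·) ((C_pow (a := eps A n) (n := n)).symm.trans ((congrArg C (eps_pow n)).trans C_0))).trans (mul_zero _)
  let h := enLift ((C).comp (enC A n)) ε' hε'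
  have key : h b = X ^ m * C b := by
    have e1 : h b = (theta φ ((C).comp (enC A n)) (E n q ε')).coeff m := by
      have := congrArg (fun P : (En A n)[X][X] => P.coeff m)
        (theta_map φ (enC A n) h (hgl (enC A n) (eps_pow n)))
      simp only [coeff_map, E_map (hu (enC A n))] at this
      rw [enLift_comp, enLift_eps] at this
      exact this
    rw [e1, show ε' = X ^ q * C (eps A n) from rfl, ← scale_E (hu ((C).comp (enC A n))),
      coeff_theta_scale φ _ (hgl ((C).comp (enC A n)) (by rw [← map_pow, eps_pow, map_zero])),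
      ← E_map (hu (enC A n)), ← theta_map φ _ _ (hgl (enC A n) (eps_pow n)), coeff_map]
  have hterm : ∀ i, h (enC A n (p.coeff i) * eps A n ^ i) =
      monomial (q * i) (enC A n (p.coeff i) * eps A n ^ i) := fun i => by
    rw [map_mul, map_pow, show h (enC A n (p.coeff i)) = C (enC A n (p.coeff i)) from
      congr($(enLift_comp ((C).comp (enC A n)) ε' hε') (p.coeff i)), enLift_eps,
      ← C_mul_X_pow_eq_monomial, C_mul, C_pow, show ε' = X ^ q * C (eps A n) from rfl]
    refine (congrArg (C (enC A n (p.coeff i)) * ·) ((mul_pow _ _ _).trans (congrArg (· * _) (pow_mul _ _ _).symm))).trans ?_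
    ring
  have hcoef : ∀ i < n, q * i ≠ m → p.coeff i = 0 := by
    intro i hi hne
    refine enC_mul_eps_pow_inj hi ?_
    have := congrArg (fun P : (En A n)[X] => P.coeff (q * i)) key
    simp only [coeff_X_pow_mul', coeff_C] at this
    rw [hp, map_sum, finsetSum_coeff, Finset.sum_eq_single i] at this
    · rw [hterm, coeff_monomial, if_pos rfl] at this
      rw [this]
      split_ifs with h1 h2
      · omega
      · rfl
      · rfl
    · intro j _ hji
      rw [hterm, coeff_monomial, if_neg fun e => hji (Nat.eq_of_mul_eq_mul_left hq e)]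
    · intro hni; exact absurd (Finset.mem_range.2 hi) hni
  refine ⟨p.coeff 1, fun h1 => hcoef 1 hn (h1 1 hn), fun h1 B _ f t ht => ?_⟩
  have e1 : (theta φ f (E n q t)).coeff m = enLift f t ht b := by
    have := congrArg (fun P : B[X] => P.coeff m)
      (theta_map φ (enC A n) (enLift f t ht) (hgl (enC A n) (eps_pow n)))
    simp only [coeff_map, E_map (hu (enC A n))] at this
    rw [enLift_comp, enLift_eps] at this
    exact this.symm
  rw [e1, hp, map_sum, Finset.sum_eq_single 1]
  · rw [map_mul, pow_one, enLift_eps]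
    exact congrArg (· * t) congr($(enLift_comp f t ht) (p.coeff 1))
  · intro i hi hi1
    rw [hcoef i (Finset.mem_range.1 hi) fun e => hi1 (h1 i (Finset.mem_range.1 hi) e)]
    simp
  · intro h; exact absurd (Finset.mem_range.2 hn) h

theorem coeff_E_self (hB : ∀ j < n, IsUnit (j.factorial : B)) (hn : 1 < n) (hq : 0 < q) (t : B) :
    (E n q t).coeff q = t := by
  rw [coeff_E hB, Finset.sum_eq_single 1]
  · simp
  · intro j _ hj
    rw [if_neg fun e => hj (Nat.eq_of_mul_eq_mul_right hq (by omega))]
  · intro h; exact absurd (Finset.mem_range.2 hn) h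

end Groth.Agent.Lib.GaBidual62
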