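import Groth.Prelude.Def_CGrpSh2
import Groth.Agent.Lib.RedPts.Ga
import Groth.Agent.Lib.RedPts.Gm
import Groth.Agent.Lib.GaBidual62.Basic

/-!
# Characters of the additive group over an affine object as polynomials
-/

set_option autoImplicit false

universe u

open CategoryTheory AlgebraicGeometry Opposite MonObj GrpObj MonoidalCategory CartesianMonoidalCategory

namespace Groth.Agent.Lib.GaBidual62

open Groth.Agent.Lib.RedPts

noncomputable section

variable {X : Scheme.{u}}

/-- `𝔾_a` on the fppf site. -/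
abbrev GaS (X : Scheme.{u}) : BigSite.Ab Scheme.fppfPrecoverage X :=
  CGrpSh2.Ga Scheme.fppfPrecoverage X

/-- `𝔾_m` on the fppf site. -/
abbrev GmS (X : Scheme.{u}) : BigSite.Ab Scheme.fppfPrecoverage X :=
  CGrpSh2.Gm Scheme.fppfPrecoverage X

/-- The dual of `𝔾_a`. -/
abbrev DGa (X : Scheme.{u}) : BigSite.Ab Scheme.fppfPrecoverage X :=
  CGrpSh2.dualSh Scheme.fppfPrecoverage (GaS X)

/-- Characters over `U`. -/
abbrev Chr (U : Over X) : Type (u + 1) := (GaS X).over U ⟶ (GmS X).over U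

/-- `B ≃ Γ(Spec B)`. -/
def sp (B : Type u) [CommRing B] : B ≃+* Γ(Spec (CommRingCat.of B), ⊤) :=
  (Scheme.ΓSpecIso (CommRingCat.of B)).commRingCatIsoToRingEquiv.symm

theorem SpecMap_appTop_sp {A B : Type u} [CommRing A] [CommRing B] (g : A →+* B) (a : A) :
    (Spec.map (CommRingCat.ofHom g)).appTop (sp A a) = sp B (g a) :=
  (congr($(Scheme.ΓSpecIso_inv_naturality (CommRingCat.ofHom g)) a)).symm

theorem toSpec_appTop_sp {B : Type u} [CommRing B] {Z : Scheme.{u}} (h : B →+* Γ(Z, ⊤)) (b : B) :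
    (Z.toSpecΓ ≫ Spec.map (CommRingCat.ofHom h)).appTop (sp B b) = h b := by
  rw [Scheme.Hom.comp_appTop, CommRingCat.comp_apply, SpecMap_appTop_sp, Scheme.toSpecΓ_appTop]
  exact congr($((Scheme.ΓSpecIso Γ(Z, ⊤)).inv_hom_id) (h b))

theorem isoSpec_inv_appTop {Z : Scheme.{u}} [IsAffine Z] (a : Γ(Z, ⊤)) :
    Z.isoSpec.inv.appTop a = sp Γ(Z, ⊤) a := by
  have h := congrArg Scheme.Hom.appTop (Scheme.toSpecΓ_isoSpec_inv Z)
  rw [Scheme.Hom.comp_appTop, Scheme.Hom.id_appTop, Scheme.toSpecΓ_appTop] at h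
  have h' : (Scheme.ΓSpecIso Γ(Z, ⊤)).hom (Z.isoSpec.inv.appTop a) = a := congr($h a)
  rw [← (sp Γ(Z, ⊤)).apply_symm_apply (Z.isoSpec.inv.appTop a)]
  exact congrArg (sp _) h'

/-- Pull-back of functions along the structure map of `W : Over U`. -/
abbrev str {U : Over X} (W : Over U) : Γ(U.left, ⊤) →+* Γ(W.left.left, ⊤) := W.hom.left.appTop.hom

/-- The object `Spec B` over an affine `U`. -/
def ov (U : Over X) [IsAffine U.left] {B : Type u} [CommRing B] (f : Γ(U.left, ⊤) →+* B) : Over U :=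
  Over.mk (Over.homMk (Spec.map (CommRingCat.ofHom f) ≫ U.left.isoSpec.inv) (Category.assoc _ _ _) :
    Over.mk (Spec.map (CommRingCat.ofHom f) ≫ U.left.isoSpec.inv ≫ U.hom) ⟶ U)

instance (U : Over X) [IsAffine U.left] {B : Type u} [CommRing B] (f : Γ(U.left, ⊤) →+* B) :
    IsAffine (ov U f).left.left :=
  inferInstanceAs (IsAffine (Spec (CommRingCat.of B)))

theorem str_ov (U : Over X) [IsAffine U.left] {B : Type u} [CommRing B] (f : Γ(U.left, ⊤) →+* B)
    (a : Γ(U.left, ⊤)) : str (ov U f) a = sp B (f a) := by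
  change (Spec.map (CommRingCat.ofHom f) ≫ U.left.isoSpec.inv).appTop a = _
  rw [Scheme.Hom.comp_appTop, CommRingCat.comp_apply, isoSpec_inv_appTop, SpecMap_appTop_sp]

/-- The map into `Spec B` given by a ring map. -/
def ovLift (U : Over X) [IsAffine U.left] {B : Type u} [CommRing B] (f : Γ(U.left, ⊤) →+* B)
    (W : Over U) (h : B →+* Γ(W.left.left, ⊤)) (hf : h.comp f = str W) : W ⟶ ov U f :=
  have hw : (W.left.left.toSpecΓ ≫ Spec.map (CommRingCat.ofHom h)) ≫
      Spec.map (CommRingCat.ofHom f) ≫ U.left.isoSpec.inv = W.hom.left := by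
    rw [Category.assoc, ← Spec.map_comp_assoc, ← CommRingCat.ofHom_comp, hf, CommRingCat.ofHom_hom,
      ← Category.assoc, ← Scheme.toSpecΓ_naturality, Category.assoc, Scheme.toSpecΓ_isoSpec_inv,
      Category.comp_id]
  Over.homMk
    (Over.homMk (W.left.left.toSpecΓ ≫ Spec.map (CommRingCat.ofHom h))
      (by
        change _ ≫ Spec.map (CommRingCat.ofHom f) ≫ U.left.isoSpec.inv ≫ U.hom = W.left.hom
        rw [← Over.w W.hom, ← hw]
        simp only [Category.assoc]
        rfl))
    (Over.OverMorphism.ext hw)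

theorem ovLift_sp (U : Over X) [IsAffine U.left] {B : Type u} [CommRing B] (f : Γ(U.left, ⊤) →+* B)
    (W : Over U) (h : B →+* Γ(W.left.left, ⊤)) (hf : h.comp f = str W) (b : B) :
    (ovLift U f W h hf).left.left.appTop (sp B b) = h b :=
  toSpec_appTop_sp h b

variable {U : Over X}

/-- A section of `𝔾_a` over `W`. -/
def el (W : Over U) (a : Γ(W.left.left, ⊤)) : ((GaS X).over U).obj.obj (op W) :=
  ULift.up (Additive.ofMul (Ga.gaPt a))

/-- The function given by a character at `a`. -/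
def val (χ : Chr U) (W : Over U) (a : Γ(W.left.left, ⊤)) : Γ(W.left.left, ⊤) :=
  Red.gmFn (X := W.left) (χ.hom.app (op W) (el W a)).down.toMul

theorem val_nat (χ : Chr U) {W' W : Over U} (k : W' ⟶ W) (a : Γ(W.left.left, ⊤)) :
    val χ W' (k.left.left.appTop a) = k.left.left.appTop (val χ W a) := by
  have h := congr($(χ.hom.naturality k.op) (el W a))
  have e : ((GaS X).over U).obj.map k.op (el W a) = el W' (k.left.left.appTop a) :=
    ULift.ext _ _ (congrArg Additive.ofMul (Ga.eq_gaPt _ (by rw [Ga.gaFn_comp]; exact congrArg _ (Ga.gaFn_gaPt a))))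
  change χ.hom.app (op W') (((GaS X).over U).obj.map k.op (el W a)) =
    ((GmS X).over U).obj.map k.op (χ.hom.app (op W) (el W a)) at h
  rw [e] at h
  rw [val, h]
  exact Gm.gmFn_comp k.left _

theorem val_add (χ : Chr U) (W : Over U) (a b : Γ(W.left.left, ⊤)) :
    val χ W (a + b) = val χ W a * val χ W b := by
  have e : el W (a + b) = el W a + el W b := ULift.ext _ _ (congrArg Additive.ofMul (Ga.gaPt_add a b))
  rw [val, e, map_add]
  exact Gm.gmFn_mul _ _

theorem val_zero (χ : Chr U) (W : Over U) : val χ W 0 = 1 := by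
  have e : el W 0 = 0 := ULift.ext _ _
    (congrArg Additive.ofMul (Ga.eq_gaPt (1 : W.left ⟶ Red.Ga X) Ga.gaFn_one).symm)
  rw [val, e, map_zero]
  exact Gm.gmFn_one

theorem app_eq_el (W : Over U) (s : ((GaS X).over U).obj.obj (op W)) :
    s = el W (Red.gaFn (X := W.left) s.down.toMul) :=
  ULift.ext _ _ (congrArg Additive.ofMul (Ga.eq_gaPt _ rfl))

theorem chr_ext {χ χ' : Chr U} (h : ∀ (W : Over U) a, val χ W a = val χ' W a) : χ = χ' := by
  refine CategoryTheory.Sheaf.hom_ext (NatTrans.ext (funext fun W => AddCommGrpCat.ext fun s => ?_))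
  obtain ⟨W⟩ := W
  rw [app_eq_el W s]
  exact ULift.ext _ _ (congrArg Additive.ofMul (Gm.gmFn_injective (h W _)))

variable [IsAffine U.left]

variable (U) in
/-- The universal point. -/
def uX : Γ((ov U (Polynomial.C : Γ(U.left, ⊤) →+* Polynomial Γ(U.left, ⊤))).left.left, ⊤) :=
  sp (Polynomial Γ(U.left, ⊤)) Polynomial.X

/-- The polynomial of a character. -/
def poly (χ : Chr U) : Polynomial Γ(U.left, ⊤) :=
  (sp (Polynomial Γ(U.left, ⊤))).symm (val χ (ov U Polynomial.C) (uX U))

theorem val_eq (χ : Chr U) (W : Over U) (a : Γ(W.left.left, ⊤)) :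
    val χ W a = (poly χ).eval₂ (str W) a := by
  have hf : (Polynomial.eval₂RingHom (str W) a).comp Polynomial.C = str W := by ext b; simp
  let k := ovLift U Polynomial.C W (Polynomial.eval₂RingHom (str W) a) hf
  have e : k.left.left.appTop (uX U) = a :=
    (ovLift_sp _ _ _ _ hf _).trans (Polynomial.eval₂_X _ _)
  have e2 : k.left.left.appTop (val χ (ov U Polynomial.C) (uX U)) = (poly χ).eval₂ (str W) a :=
    (congrArg (fun z => k.left.left.appTop z)
      ((sp (Polynomial Γ(U.left, ⊤))).apply_symm_apply (val χ (ov U Polynomial.C) (uX U))).symm).trans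
      (ovLift_sp _ _ _ _ hf _)
  exact (congrArg (val χ W) e.symm).trans ((val_nat χ k _).trans e2)

theorem eval₂_sp {A B : Type u} [CommRing A] [CommRing B] {f : A →+* Γ(Spec (CommRingCat.of B), ⊤)}
    (g : A →+* B) (hf : ∀ a, f a = sp B (g a)) (P : Polynomial A) (b : B) :
    P.eval₂ f (sp B b) = sp B (P.eval₂ g b) := by
  rw [← RingEquiv.coe_toRingHom, Polynomial.hom_eval₂]
  exact congrArg (fun r => P.eval₂ r _) (RingHom.ext hf)

theorem poly_gl (χ : Chr U) : IsGL (poly χ) := by
  refine ⟨(sp _).injective ?_, fun D _ g x y => (sp D).injective ?_⟩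
  · have := val_zero χ (ov U (RingHom.id _))
    rw [val_eq] at this
    refine (Eq.trans ?_ this).trans (map_one _).symm
    exact (eval₂_sp (RingHom.id _) (str_ov U _) (poly χ) 0).symm.trans (congrArg (fun z => (poly χ).eval₂ _ z) (map_zero _))
  · have := val_add χ (ov U g) (sp D x) (sp D y)
    rw [map_mul, ← eval₂_sp g (str_ov U g), ← eval₂_sp g (str_ov U g), ← eval₂_sp g (str_ov U g), map_add]
    exact ((val_eq χ (ov U g) _).symm.trans this).trans
      (congrArg₂ (· * ·) (val_eq χ (ov U g) _) (val_eq χ (ov U g) _))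

theorem poly_ext {χ χ' : Chr U} (h : poly χ = poly χ') : χ = χ' :=
  chr_ext fun W a => by rw [val_eq, val_eq, h]

theorem eq_poly {χ : Chr U} {P : Polynomial Γ(U.left, ⊤)}
    (h : ∀ (W : Over U) a, val χ W a = P.eval₂ (str W) a) : poly χ = P := by
  rw [poly, h]
  refine (congrArg _ (eval₂_sp Polynomial.C (str_ov U _) P Polynomial.X)).trans ?_
  exact (RingEquiv.symm_apply_apply _ _).trans Polynomial.eval₂_C_X

theorem poly_add (χ χ' : Chr U) : poly (χ + χ') = poly χ * poly χ' := eq_poly fun W a => by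
  rw [Polynomial.eval₂_mul, ← val_eq, ← val_eq]
  exact Gm.gmFn_mul _ _

theorem poly_zero : poly (0 : Chr U) = 1 := eq_poly fun W a => by
  rw [Polynomial.eval₂_one]
  exact Gm.gmFn_one

theorem isUnit_eval₂ {P : Polynomial Γ(U.left, ⊤)} (hP : IsGL P) (W : Over U) (a : Γ(W.left.left, ⊤)) :
    IsUnit (P.eval₂ (str W) a) := by
  refine IsUnit.of_mul_eq_one (P.eval₂ (str W) (-a)) ?_
  rw [← hP.2 _ (str W), add_neg_cancel, Polynomial.eval₂_at_zero, Polynomial.coeff_zero_eq_eval_zero, hP.1,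
    map_one]

/-- The point with value `P(a)`. -/
def polyPt {P : Polynomial Γ(U.left, ⊤)} (hP : IsGL P) (W : Over U) (a : Γ(W.left.left, ⊤)) :
    W.left ⟶ Red.Gm X :=
  Gm.gmPt (X := W.left) (isUnit_eval₂ hP W a).unit

theorem gmFn_polyPt {P : Polynomial Γ(U.left, ⊤)} (hP : IsGL P) (W : Over U) (a : Γ(W.left.left, ⊤)) :
    Red.gmFn (polyPt hP W a) = P.eval₂ (str W) a :=
  (Gm.gmFn_gmPt _).trans (IsUnit.unit_spec _)

/-- The character with a given polynomial. -/
def ofPoly (P : Polynomial Γ(U.left, ⊤)) (hP : IsGL P) : Chr U :=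
  ⟨{ app := fun W => AddCommGrpCat.ofHom (AddMonoidHom.mk'
      (fun s : ((GaS X).over U).obj.obj W =>
        (ULift.up (Additive.ofMul (polyPt hP W.unop (Red.gaFn (X := W.unop.left) s.down.toMul))) :
          ((GmS X).over U).obj.obj W))
      (fun s t => ULift.ext _ _ (congrArg Additive.ofMul (Gm.gmFn_injective (by
        change _ = Red.gmFn (polyPt hP W.unop _ * polyPt hP W.unop _)
        rw [Gm.gmFn_mul, gmFn_polyPt, gmFn_polyPt, gmFn_polyPt, ← hP.2 _ (str W.unop)]
        exact congrArg (fun z => P.eval₂ (str W.unop) z)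
          (Ga.gaFn_mul (X := W.unop.left) s.down.toMul t.down.toMul))))))
     naturality := fun W W' k => by
       refine AddCommGrpCat.ext fun s => ULift.ext _ _ (congrArg Additive.ofMul (Gm.gmFn_injective ?_))
       change Red.gmFn (polyPt hP W'.unop (Red.gaFn (k.unop.left ≫ s.down.toMul))) =
         Red.gmFn (k.unop.left ≫ polyPt hP W.unop (Red.gaFn (X := W.unop.left) s.down.toMul))
       rw [Gm.gmFn_comp, gmFn_polyPt, gmFn_polyPt]
       refine (congrArg (fun z => P.eval₂ (str W'.unop) z)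
         (Ga.gaFn_comp k.unop.left (s.down.toMul : W.unop.left ⟶ Red.Ga X))).trans ?_
       rw [Polynomial.hom_eval₂]
       refine congrArg (fun r => Polynomial.eval₂ r _ P) ?_
       rw [str, str, ← CommRingCat.hom_comp, ← Scheme.Hom.comp_appTop]
       exact congrArg (fun f => f.hom) (congrArg Scheme.Hom.appTop (congrArg CommaMorphism.left (Over.w k.unop))).symm }⟩

theorem poly_ofPoly (P : Polynomial Γ(U.left, ⊤)) (hP : IsGL P) : poly (ofPoly P hP) = P :=
  eq_poly fun W a => by
    change Red.gmFn (polyPt hP W (Red.gaFn (Ga.gaPt (X := W.left) a))) = _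
    rw [gmFn_polyPt, Ga.gaFn_gaPt]

/-- Restriction of a character. -/
def res {U' U : Over X} (m : U' ⟶ U) (χ : Chr U) : Chr U' := (DGa X).obj.map m.op χ

theorem poly_res {U' U : Over X} [IsAffine U'.left] [IsAffine U.left] (m : U' ⟶ U) (χ : Chr U) :
    poly (res m χ) = (poly χ).map m.left.appTop.hom := eq_poly fun W a => by
  change val χ ((Over.map m).obj W) a = _
  rw [val_eq, Polynomial.eval₂_map]
  refine congrArg (fun r => Polynomial.eval₂ r _ (poly χ)) ?_
  change (W.hom ≫ m).left.appTop.hom = _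
  rw [Over.comp_left, Scheme.Hom.comp_appTop]
  rfl

end

end Groth.Agent.Lib.GaBidual62
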