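import Groth.Agent.Lib.GaBidual62.Basic

/-!
# Natural values on characters of the additive group are evaluations
-/

set_option autoImplicit false

universe u

open Polynomial

namespace Groth.Agent.Lib.GaBidual62

open Groth.Agent.H2.Chars (texp texp_map texp_zero texp_add expProd)

variable {A B : Type u} [CommRing A] [CommRing B]

/-- Every multiplicative natural value on characters over `A`-algebras is evaluation at a point. -/
def Good (A : Type u) [CommRing A] : Prop :=
  ∀ φ : Fam A, ∃ c : A, ∀ (B : Type u) [CommRing B] (f : A →+* B) (P : B[X]), IsGL P →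
    φ.val f P = P.eval (f c)

theorem isUnit_factorial_of_lt_two (B : Type u) [CommRing B] {j : ℕ} (hj : j < 2) :
    IsUnit (j.factorial : B) := by
  interval_cases j <;> simp

theorem GL_eps (A : Type u) [CommRing A] : IsGL (E 2 1 (eps A 2)) :=
  GL_E (fun _ => isUnit_factorial_of_lt_two _) two_pos one_pos
    (fun D _ _ x y => by simp) (eps_pow 2)

/-- Uniqueness of the evaluation point. -/
theorem eq_of_eval_eq {c c' : A}
    (h : ∀ (B : Type u) [CommRing B] (f : A →+* B) (P : B[X]), IsGL P → P.eval (f c) = P.eval (f c')) :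
    c = c' := by
  have h2 := h _ (enC A 2) _ (GL_eps A)
  simp only [eval, eval₂_E (fun _ => isUnit_factorial_of_lt_two (En A 2))] at h2
  simp only [texp, Finset.sum_range_succ, Finset.sum_range_zero] at h2
  simp only [RingHom.id_apply, pow_one, pow_zero, Nat.factorial_zero, Nat.factorial_one, Nat.cast_one,
    Ring.inverse_one, one_mul, zero_add, add_right_inj] at h2
  refine sub_eq_zero.1 (enC_mul_eps_pow_inj (n := 2) (i := 1) one_lt_two ?_)
  rw [map_sub, pow_one, sub_mul, mul_comm, h2, mul_comm, sub_self]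

theorem eval_eq_of_theta (φ : Fam A) (f : A →+* B) {P : B[X]} (hP : IsGL P) {c : B}
    (h : theta φ f P = scale c P) : φ.val f P = P.eval c := by
  rw [← theta_eval_one φ f hP, h, scale, eval_comp]
  simp

/-! ### Rational algebras -/

section Rat

variable [Algebra ℚ A]

theorem isUnit_factorial_rat (f : A →+* B) (j : ℕ) : IsUnit (j.factorial : B) := by
  have : IsUnit ((j.factorial : ℚ)) := isUnit_iff_ne_zero.2 (by exact_mod_cast j.factorial_ne_zero)
  simpa using this.map (f.comp (algebraMap ℚ A))

theorem IsGL.ext_rat [Algebra ℚ B] {P Q : B[X]} (hP : IsGL P) (hQ : IsGL Q)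
    (h : P.coeff 1 = Q.coeff 1) : P = Q := by
  obtain ⟨a, ha⟩ := (Groth.Agent.H2.Chars.rat_iff P.coeff).1 hP.coeff_eq
  obtain ⟨b, hb⟩ := (Groth.Agent.H2.Chars.rat_iff Q.coeff).1 hQ.coeff_eq
  have e1 : P.coeff 1 = a := by simp [ha]
  have e2 : Q.coeff 1 = b := by simp [hb]
  ext k
  rw [ha, hb, ← e1, ← e2, h]

theorem IsGL.exists_nilpotent_rat [Algebra ℚ B] {P : B[X]} (hP : IsGL P) :
    ∃ n, 1 < n ∧ P.coeff 1 ^ n = 0 := by
  obtain ⟨a, ha⟩ := (Groth.Agent.H2.Chars.rat_iff P.coeff).1 hP.coeff_eq
  refine ⟨P.natDegree + 2, by omega, ?_⟩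
  have h := (ha (P.natDegree + 2)).symm
  rw [coeff_eq_zero_of_natDegree_lt (by omega)] at h
  have hu : IsUnit (algebraMap ℚ B (1 / ((P.natDegree + 2).factorial : ℚ))) :=
    (isUnit_iff_ne_zero.2 (one_div_ne_zero (by exact_mod_cast Nat.factorial_ne_zero _))).map _
  rw [show P.coeff 1 = a by simp [ha]]
  exact hu.mul_left_eq_zero.1 h

theorem good_of_rat : Good A := by
  intro φ
  have hadd : ∀ (D : Type u) [CommRing D] (_ : A →+* D) (x y : D), (x + y) ^ 1 = x ^ 1 + y ^ 1 :=
    fun D _ _ x y => by simp
  have hA : ∀ j : ℕ, IsUnit (j.factorial : A) := isUnit_factorial_rat (RingHom.id A)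
  obtain ⟨c, -, hc⟩ := exists_lin (n := 2) (q := 1) φ (fun j _ => hA j) one_lt_two one_pos hadd 1
  refine ⟨c, fun B _ f P hP => eval_eq_of_theta φ f hP ?_⟩
  letI : Algebra ℚ B := (f.comp (algebraMap ℚ A)).toAlgebra
  refine IsGL.ext_rat (hP.theta φ f) (hP.scale _) ?_
  obtain ⟨n, hn, ht⟩ := hP.exists_nilpotent_rat
  obtain ⟨d, -, hd⟩ := exists_lin (n := n) (q := 1) φ (fun j _ => hA j) hn one_pos hadd 1
  have hu := fun j (_ : j < n) => isUnit_factorial_rat f j
  have hPE : P = E n 1 (P.coeff 1) :=
    IsGL.ext_rat hP (GL_E hu (by omega) one_pos (fun D _ _ x y => by simp) ht)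
      (coeff_E_self hu hn one_pos _).symm
  have hdc : d = c := by
    refine sub_eq_zero.1 (enC_mul_eps_pow_inj (n := 2) (i := 1) one_lt_two ?_)
    have he : eps A 2 ^ n = 0 := pow_eq_zero_of_le hn (eps_pow 2)
    have hu2 := fun (k : ℕ) j (_ : j < k) => isUnit_factorial_rat (enC A 2) j
    have h1 := hd (fun i _ h => by omega) _ (enC A 2) _ he
    have h2 := hc (fun i _ h => by omega) _ (enC A 2) _ (eps_pow 2)
    letI : Algebra ℚ (En A 2) := ((enC A 2).comp (algebraMap ℚ A)).toAlgebra
    have hEE : E n 1 (eps A 2) = E 2 1 (eps A 2) :=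
      IsGL.ext_rat (GL_E (hu2 n) (by omega) one_pos (fun D _ _ x y => by simp) he) (GL_eps A)
        (by rw [coeff_E_self (hu2 n) hn one_pos, coeff_E_self (hu2 2) one_lt_two one_pos])
    rw [hEE] at h1
    rw [map_sub, pow_one, sub_mul, ← h1, ← h2, sub_self]
  rw [coeff_scale, pow_one, ← hdc, ← hd (fun i _ h => by omega) B f _ ht, ← hPE]

end Rat

/-! ### Characteristic `p` -/

section CharP

variable {p : ℕ} [hp : Fact p.Prime]

theorem add_pow_prime_pow {D : Type u} [CommRing D] (hD : (p : D) = 0) (l : ℕ) (x y : D) :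
    (x + y) ^ p ^ l = x ^ p ^ l + y ^ p ^ l := by
  obtain ⟨r, hr⟩ := exists_add_pow_prime_pow_eq hp.out x y l
  rw [hr, hD]; ring

theorem isUnit_factorial_char (hB : (p : B) = 0) {j : ℕ} (hj : j < p) : IsUnit (j.factorial : B) := by
  rcases subsingleton_or_nontrivial B with h | h
  · exact isUnit_of_subsingleton _
  · have : CharP B p := (CharP.charP_iff_prime_eq_zero hp.out).2 hB
    exact (IsUnit.natCast_factorial_iff_of_charP p).2 hj

theorem GL_E_char (hB : (p : B) = 0) (l : ℕ) {t : B} (ht : t ^ p = 0) : IsGL (E p (p ^ l) t) :=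
  GL_E (fun _ => isUnit_factorial_char hB) hp.out.pos (pow_pos hp.out.pos l)
    (fun D _ g x y => add_pow_prime_pow (by rw [← map_natCast g, hB, map_zero]) l x y) ht

/-- Decomposition of a character. -/
theorem IsGL.eq_prod {P : B[X]} (hB : (p : B) = 0) (hP : IsGL P) :
    (∀ l, P.coeff (p ^ l) ^ p = 0) ∧
      ∀ N, P.natDegree < p ^ N → P = ∏ l ∈ Finset.range N, E p (p ^ l) (P.coeff (p ^ l)) := by
  rcases subsingleton_or_nontrivial B with h | h
  · exact ⟨fun _ => Subsingleton.elim _ _, fun _ _ => Subsingleton.elim _ _⟩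
  have : CharP B p := (CharP.charP_iff_prime_eq_zero hp.out).2 hB
  obtain ⟨h0, hrec⟩ := hP.coeff_eq
  refine ⟨fun l => (Groth.Agent.H2.Chars.core P.coeff (l + 1) h0 fun i j _ _ => hrec i j).1 l l.lt_succ_self,
    fun N hN => ?_⟩
  have e : expProd p (fun l => P.coeff (p ^ l)) N =
      ∏ l ∈ Finset.range N, E p (p ^ l) (P.coeff (p ^ l)) := by
    refine Finset.prod_congr rfl fun l _ => Finset.sum_congr rfl fun j hj => ?_
    rw [mul_pow, ← pow_mul, mul_comm (p ^ l) j, ← C_pow,
      ← map_natCast (Polynomial.C : B →+* B[X]), ← Groth.Agent.H2.Chars.inverse_map _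
        (isUnit_factorial_char hB (Finset.mem_range.1 hj)), ← mul_assoc, ← C_mul]
  rw [← e]
  ext k
  rw [(Groth.Agent.H2.Chars.core P.coeff N h0 fun i j _ _ => hrec i j).2 N le_rfl k]
  split_ifs with hk
  · rfl
  · exact coeff_eq_zero_of_natDegree_lt (by omega)

theorem IsGL.ext_char {P Q : B[X]} (hB : (p : B) = 0) (hP : IsGL P) (hQ : IsGL Q)
    (h : ∀ l, P.coeff (p ^ l) = Q.coeff (p ^ l)) : P = Q := by
  have hd : ∀ R : B[X], R.natDegree ≤ P.natDegree + Q.natDegree →
      R.natDegree < p ^ (P.natDegree + Q.natDegree) := fun R hR =>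
    lt_of_le_of_lt hR (Nat.lt_pow_self hp.out.one_lt)
  refine ((hP.eq_prod hB).2 _ (hd P (by omega))).trans
    (Eq.trans ?_ ((hQ.eq_prod hB).2 _ (hd Q (by omega))).symm)
  exact Finset.prod_congr rfl fun l _ => by rw [h]

theorem coeff_E_ppow (hB : (p : B) = 0) (l m : ℕ) (t : B) :
    (E p (p ^ l) t).coeff (p ^ m) = if m = l then t else 0 := by
  have hu := fun j => @isUnit_factorial_char B _ p hp hB j
  split_ifs with h
  · subst h; exact coeff_E_self (fun j hj => hu j hj) hp.out.one_lt (pow_pos hp.out.pos m) t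
  · rw [coeff_E (fun j hj => hu j hj)]
    refine Finset.sum_eq_zero fun j hj => if_neg fun e => h ?_
    have hj' := Finset.mem_range.1 hj
    rcases lt_or_gt_of_ne h with h1 | h1
    · have hlt := Nat.pow_lt_pow_right hp.out.one_lt h1
      rcases j with - | j
      · simp [hp.out.ne_zero] at e
      · have : p ^ l ≤ (j + 1) * p ^ l := Nat.le_mul_of_pos_left _ (by omega)
        omega
    · have hle : p * p ^ l ≤ p ^ m := by rw [← pow_succ']; exact Nat.pow_le_pow_right hp.out.pos h1
      have : j * p ^ l < p * p ^ l := Nat.mul_lt_mul_of_pos_right hj' (pow_pos hp.out.pos l)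
      omega

theorem ppow_solutions {l m i : ℕ} (hi : i < p) (h : p ^ l * i = p ^ m) : m = l ∧ i = 1 := by
  have h1 := hp.out.one_lt
  rcases lt_trichotomy m l with hml | rfl | hml
  · have := Nat.pow_lt_pow_right h1 hml
    rcases i with - | i
    · simp [hp.out.ne_zero] at h; exact absurd h.symm (pow_ne_zero _ hp.out.ne_zero)
    · have : p ^ l ≤ p ^ l * (i + 1) := Nat.le_mul_of_pos_right _ (by omega)
      omega
  · exact ⟨rfl, Nat.eq_of_mul_eq_mul_left (pow_pos hp.out.pos m) (by omega)⟩
  · have hle : p ^ l * p ≤ p ^ m := by rw [← pow_succ]; exact Nat.pow_le_pow_right hp.out.pos hml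
    have : p ^ l * i < p ^ l * p := Nat.mul_lt_mul_of_pos_left hi (pow_pos hp.out.pos l)
    omega

theorem exists_theta_E (hA : (p : A) = 0) (φ : Fam A) (l : ℕ) :
    ∃ c : A, ∀ (B : Type u) [CommRing B] (f : A →+* B) (t : B), t ^ p = 0 →
      theta φ f (E p (p ^ l) t) = E p (p ^ l) (f c * t) := by
  have hu := fun j => @isUnit_factorial_char A _ p hp hA j
  choose c hc0 hc using fun m : ℕ => exists_lin (n := p) (q := p ^ l) φ (fun j hj => hu j hj)
    hp.out.one_lt (pow_pos hp.out.pos l)
    (fun D _ g x y => add_pow_prime_pow (by rw [← map_natCast g, hA, map_zero]) l x y) (p ^ m)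
  refine ⟨c l, fun B _ f t ht => ?_⟩
  have hB : (p : B) = 0 := by rw [← map_natCast f, hA, map_zero]
  have ht' : (f (c l) * t) ^ p = 0 := by rw [mul_pow, ht, mul_zero]
  refine IsGL.ext_char hB ((GL_E_char hB l ht).theta φ f) (GL_E_char hB l ht') fun m => ?_
  rw [hc m (fun i hi h => (ppow_solutions hi h).2) B f t ht, coeff_E_ppow hB]
  split_ifs with h
  · rw [h]
  · rw [hc0 m fun i hi e => h (ppow_solutions hi e).1, map_zero, zero_mul]

theorem good_of_char (hA : (p : A) = 0) : Good A := by
  intro φ
  choose c hc using exists_theta_E hA φ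
  have hc' : ∀ l, c l = c 0 ^ p ^ l := by
    intro l
    induction l with
    | zero => simp
    | succ l ih =>
      -- test ring `A[b, ε]/(b^p, ε^2)`
      let R := En (En A 2) p
      let f : A →+* R := (enC (En A 2) p).comp (enC A 2)
      let e : R := enC (En A 2) p (eps A 2)
      let b : R := eps (En A 2) p
      have hR : (p : R) = 0 := by rw [← map_natCast f, hA, map_zero]
      have hp2 := hp.out.two_le
      have he2 : e * e = 0 := by
        rw [← map_mul, ← pow_two, eps_pow, map_zero]
      have he : e ^ p = 0 := pow_eq_zero_of_le hp2 (by rw [pow_two]; exact he2)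
      have hb : b ^ p = 0 := eps_pow p
      have hq := pow_pos hp.out.pos l
      have hu := fun j => @isUnit_factorial_char R _ p hp hR j
      let Q : R[X] := E p (p ^ l) e * E p (p ^ l) b
      have hQ : IsGL Q := (GL_E_char hR l he).mul (GL_E_char hR l hb)
      let q := p ^ l
      let N := Q.natDegree
      have hN : Q.natDegree < p ^ (N + (l + 2)) :=
        lt_of_lt_of_le (Nat.lt_pow_self hp.out.one_lt) (Nat.pow_le_pow_right hp.out.pos (by omega))
      have hdec := (hQ.eq_prod hR).2 _ hN
      have hθ : theta φ f Q = scale (f (c 0)) Q := by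
        rw [theta_mul φ f (GL_E_char hR l he) (GL_E_char hR l hb), hc l _ f _ he, hc l _ f _ hb,
          scale_mul, scale_E (fun j hj => hu j hj), scale_E (fun j hj => hu j hj), ih, map_pow]
      have hθ' : theta φ f Q = ∏ m ∈ Finset.range (N + (l + 2)),
          E p (p ^ m) (f (c m) * Q.coeff (p ^ m)) := by
        have := congrArg (theta φ f) hdec
        rw [theta_prod φ f _ _ fun m => GL_E_char hR m ((hQ.eq_prod hR).1 m)] at this
        rw [this]
        exact Finset.prod_congr rfl fun m _ => hc m _ f _ ((hQ.eq_prod hR).1 m)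
      -- coefficients of `Q`
      have hE : E p (p ^ l) e = 1 + C e * X ^ p ^ l := by
        refine IsGL.ext_char hR (GL_E_char hR l he) ⟨by simp [eval_add, zero_pow hq.ne'], ?_⟩ fun m => ?_
        · intro D _ g x y
          have h2 : g e * g e = 0 := by rw [← map_mul, he2, map_zero]
          simp only [eval₂_add, eval₂_one, eval₂_mul, eval₂_C, eval₂_X_pow]
          rw [add_pow_prime_pow (by rw [← map_natCast g, hR, map_zero]) l x y]
          linear_combination (-(x ^ p ^ l * y ^ p ^ l)) * h2
        · rw [coeff_E_ppow hR, coeff_add, coeff_C_mul_X_pow, coeff_one]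
          simp [Nat.pow_right_injective hp2 |>.eq_iff, hp.out.ne_zero]
      let s : R := e * (Ring.inverse ((p - 1).factorial : R) * b ^ (p - 1))
      have hQc : ∀ m, m ≠ l → Q.coeff (p ^ m) = if m = l + 1 then s else 0 := by
        intro m hm
        simp only [Q, hE, add_mul, one_mul, coeff_add, coeff_E_ppow hR, if_neg hm, zero_add, mul_assoc,
          coeff_C_mul, coeff_X_pow_mul', coeff_E (fun j hj => hu j hj)]
        split_ifs with h1 h2 h2
        · rw [Finset.sum_eq_single (p - 1)]
          · rw [if_pos]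
            subst h2
            rw [Nat.sub_mul, pow_succ', one_mul]
          · intro j hj hne
            rw [if_neg]
            subst h2
            intro e'
            refine hne (Nat.eq_of_mul_eq_mul_right hq ?_)
            rw [← e', Nat.sub_mul, pow_succ', one_mul]
          · intro h; exact absurd (Finset.mem_range.2 (by omega)) h
        · refine mul_eq_zero_of_right _ (Finset.sum_eq_zero fun j hj => if_neg fun e' => ?_)
          have hj' := Finset.mem_range.1 hj
          have e2 : p ^ l * (j + 1) = p ^ m := by rw [mul_add, mul_one, mul_comm, ← e']; omega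
          rcases eq_or_lt_of_le (show j + 1 ≤ p by omega) with h3 | h3
          · exact h2 (Nat.pow_right_injective hp2 (show p ^ m = p ^ (l + 1) by rw [← e2, h3, pow_succ]))
          · exact hm (ppow_solutions h3 e2).1
        · exact absurd (Nat.pow_le_pow_right hp.out.pos (by omega : l ≤ m)) h1
        · simp
      have hQs : Q.coeff (p ^ (l + 1)) = s := by rw [hQc _ (by omega), if_pos rfl]
      -- compare
      have hprod : theta φ f Q = E p (p ^ l) (f (c l) * Q.coeff (p ^ l)) *
          E p (p ^ (l + 1)) (f (c (l + 1)) * s) := by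
        rw [hθ', ← hQs]
        refine Finset.prod_eq_mul (a := l) (b := l + 1) (s := Finset.range (N + (l + 2)))
          (f := fun m => E p (p ^ m) (f (c m) * Q.coeff (p ^ m))) (by omega) (fun m _ hm => ?_) ?_ ?_
        · rw [hQc m hm.1, if_neg hm.2, mul_zero, E, C_0, zero_mul, texp_zero hp.out.pos]
        · intro h; exact absurd (Finset.mem_range.2 (by omega)) h
        · intro h; exact absurd (Finset.mem_range.2 (by omega)) h
      have h1 : (theta φ f Q).coeff (p ^ (l + 1)) = f (c (l + 1)) * s := by
        rw [hprod, coeff_mul, Finset.sum_eq_single (0, p ^ (l + 1))]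
        · have h0 := ((GL_E_char hR l (t := f (c l) * Q.coeff (p ^ l))
            (by rw [mul_pow, (hQ.eq_prod hR).1 l, mul_zero])).coeff_eq).1
          rw [h0, one_mul, coeff_E_ppow hR, if_pos rfl]
        · rintro ⟨a, a'⟩ ha hne
          have ha' : a + a' = p ^ (l + 1) := Finset.HasAntidiagonal.mem_antidiagonal.1 ha
          rw [coeff_E (fun j hj => hu j hj), coeff_E (fun j hj => hu j hj), Finset.sum_mul_sum]
          refine Finset.sum_eq_zero fun i hi => Finset.sum_eq_zero fun j hj => ?_
          split_ifs with hi' hj'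
          · exfalso
            have hj'' := Finset.mem_range.1 hj
            have hi'' := Finset.mem_range.1 hi
            rcases j with - | j
            · have : i * p ^ l = p ^ (l + 1) := by simp at hj'; omega
              have : i = p := Nat.eq_of_mul_eq_mul_right hq (by rw [this, pow_succ'])
              omega
            · have : p ^ (l + 1) ≤ (j + 1) * p ^ (l + 1) := Nat.le_mul_of_pos_left _ (by omega)
              refine hne (Prod.ext ?_ ?_) <;> simp <;> omega
          · simp
          · simp
          · simp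
        · intro h; exact absurd (Finset.HasAntidiagonal.mem_antidiagonal.2 (zero_add _)) h
      rw [hθ, coeff_scale, hQs, ← map_pow] at h1
      -- extract
      have h3 : f ((c 0 ^ p ^ (l + 1) - c (l + 1)) * Ring.inverse ((p - 1).factorial : A)) *
          (e * b ^ (p - 1)) = 0 := by
        rw [map_mul, map_sub, Groth.Agent.H2.Chars.inverse_map f (isUnit_factorial_char hA (by omega)),
          map_natCast]
        linear_combination h1
      have h4 := enC_mul_eps_pow_inj (A := En A 2) (n := p) (i := p - 1) (by omega)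
        (a := enC A 2 ((c 0 ^ p ^ (l + 1) - c (l + 1)) * Ring.inverse ((p - 1).factorial : A)) * eps A 2)
        (by rw [map_mul (enC (En A 2) p)]; linear_combination h3)
      rw [← pow_one (eps A 2)] at h4
      have h5 := enC_mul_eps_pow_inj one_lt_two h4
      have hu' : IsUnit (Ring.inverse ((p - 1).factorial : A)) :=
        (isUnit_factorial_char hA (by omega : p - 1 < p)).ringInverse
      exact (sub_eq_zero.1 (hu'.mul_left_eq_zero.1 h5)).symm
  refine ⟨c 0, fun B _ f P hP => eval_eq_of_theta φ f hP ?_⟩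
  have hB : (p : B) = 0 := by rw [← map_natCast f, hA, map_zero]
  obtain ⟨hpow, hdec⟩ := hP.eq_prod hB
  rw [hdec P.natDegree (Nat.lt_pow_self hp.out.one_lt),
    theta_prod φ f _ _ fun m => GL_E_char hB m (hpow m), scale_prod]
  exact Finset.prod_congr rfl fun m _ => by
    rw [hc m B f _ (hpow m), hc' m, scale_E (fun j hj => isUnit_factorial_char hB hj), map_pow]

end CharP

end Groth.Agent.Lib.GaBidual62
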