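import Groth.Agent.Lib.GaBidual62.Char
import Groth.Agent.Lib.GaBidual62.Good

/-!
# The double dual of the additive group
-/

set_option autoImplicit false

universe u

open CategoryTheory AlgebraicGeometry Opposite MonObj GrpObj MonoidalCategory CartesianMonoidalCategory

namespace Groth.Agent.Lib.GaBidual62

open Groth.Agent.Lib.RedPts

noncomputable section

variable {X : Scheme.{u}} {T : Over X}

/-- Sections of the double dual. -/
abbrev DD (T : Over X) : Type (u + 1) := (DGa X).over T ⟶ (GmS X).over T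

/-- The function given by a double-dual section at a character. -/
def val2 (Φ : DD T) (V : Over T) (χ : Chr V.left) : Γ(V.left.left, ⊤) :=
  Red.gmFn (X := V.left) (Φ.hom.app (op V) χ).down.toMul

theorem val2_nat (Φ : DD T) {V' V : Over T} (k : V' ⟶ V) (χ : Chr V.left) :
    val2 Φ V' (res k.left χ) = k.left.left.appTop (val2 Φ V χ) := by
  have h := congr($(Φ.hom.naturality k.op) χ)
  exact (congrArg (fun z : ((GmS X).over T).obj.obj (op V') => Red.gmFn (X := V'.left) z.down.toMul) h).trans
    (Gm.gmFn_comp k.left _)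

theorem val2_add (Φ : DD T) (V : Over T) (χ χ' : Chr V.left) :
    val2 Φ V (χ + χ') = val2 Φ V χ * val2 Φ V χ' := by
  have h : Φ.hom.app (op V) (χ + χ') = Φ.hom.app (op V) χ + Φ.hom.app (op V) χ' := map_add _ χ χ'
  rw [val2, h]
  exact Gm.gmFn_mul _ _

theorem val2_zero (Φ : DD T) (V : Over T) : val2 Φ V (0 : Chr V.left) = 1 := by
  have h : Φ.hom.app (op V) (0 : Chr V.left) = 0 := map_zero _
  rw [val2, h]
  exact Gm.gmFn_one

/-- `Spec B` as an object over `T`. -/
def ov2 (V : Over T) [IsAffine V.left.left] {B : Type u} [CommRing B] (f : Γ(V.left.left, ⊤) →+* B) :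
    Over T :=
  (Over.map V.hom).obj (ov V.left f)

instance (V : Over T) [IsAffine V.left.left] {B : Type u} [CommRing B] (f : Γ(V.left.left, ⊤) →+* B) :
    IsAffine (ov2 V f).left.left :=
  inferInstanceAs (IsAffine (Spec (CommRingCat.of B)))

/-- `B ≃ Γ(ov2 V f)`. -/
def spO (V : Over T) [IsAffine V.left.left] {B : Type u} [CommRing B] (f : Γ(V.left.left, ⊤) →+* B) :
    B ≃+* Γ((ov2 V f).left.left, ⊤) :=
  sp B

/-- The character over `Spec B` with polynomial `P`. -/
def ofP (V : Over T) [IsAffine V.left.left] {B : Type u} [CommRing B] (f : Γ(V.left.left, ⊤) →+* B)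
    (P : Polynomial B) (hP : IsGL P) : Chr (ov2 V f).left :=
  ofPoly (U := (ov2 V f).left) (P.map (spO V f : B →+* Γ((ov2 V f).left.left, ⊤))) (hP.map _)

theorem poly_ofP (V : Over T) [IsAffine V.left.left] {B : Type u} [CommRing B]
    (f : Γ(V.left.left, ⊤) →+* B) (P : Polynomial B) (hP : IsGL P) :
    poly (ofP V f P hP) = P.map (spO V f : B →+* Γ((ov2 V f).left.left, ⊤)) := poly_ofPoly _ _

open scoped Classical in
/-- The value at `P`. -/
def famVal (Φ : DD T) (V : Over T) [IsAffine V.left.left] {B : Type u} [CommRing B]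
    (f : Γ(V.left.left, ⊤) →+* B) (P : Polynomial B) : B :=
  if h : IsGL P then (spO V f).symm (val2 Φ (ov2 V f) (ofP V f P h)) else 1

theorem sp_famVal (Φ : DD T) (V : Over T) [IsAffine V.left.left] {B : Type u} [CommRing B]
    (f : Γ(V.left.left, ⊤) →+* B) {P : Polynomial B} (h : IsGL P) :
    spO V f (famVal Φ V f P) = val2 Φ (ov2 V f) (ofP V f P h) := by
  rw [famVal, dif_pos h]
  exact (spO V f).apply_symm_apply _

/-- The map `Spec B' ⟶ Spec B` over `T`. -/
def ov2Map (V : Over T) [IsAffine V.left.left] {B B' : Type u} [CommRing B] [CommRing B']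
    (f : Γ(V.left.left, ⊤) →+* B) (g : B →+* B') : ov2 V (g.comp f) ⟶ ov2 V f :=
  (Over.map V.hom).map (Over.homMk (Over.homMk (Spec.map (CommRingCat.ofHom g))
      (by
        change Spec.map (CommRingCat.ofHom g) ≫ Spec.map (CommRingCat.ofHom f) ≫ V.left.left.isoSpec.inv ≫ V.left.hom =
          Spec.map (CommRingCat.ofHom (g.comp f)) ≫ V.left.left.isoSpec.inv ≫ V.left.hom
        rw [CommRingCat.ofHom_comp, Spec.map_comp, Category.assoc]))
      (Over.OverMorphism.ext (by
        change Spec.map (CommRingCat.ofHom g) ≫ Spec.map (CommRingCat.ofHom f) ≫ V.left.left.isoSpec.inv =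
          Spec.map (CommRingCat.ofHom (g.comp f)) ≫ V.left.left.isoSpec.inv
        rw [CommRingCat.ofHom_comp, Spec.map_comp, Category.assoc])))

theorem ov2Map_spO (V : Over T) [IsAffine V.left.left] {B B' : Type u} [CommRing B] [CommRing B']
    (f : Γ(V.left.left, ⊤) →+* B) (g : B →+* B') (b : B) :
    (ov2Map V f g).left.left.appTop (spO V f b) = spO V (g.comp f) (g b) :=
  SpecMap_appTop_sp g b

/-- The structure map to `V`. -/
def ov2Str (V : Over T) [IsAffine V.left.left] {B : Type u} [CommRing B] (f : Γ(V.left.left, ⊤) →+* B) :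
    ov2 V f ⟶ V :=
  Over.homMk (ov V.left f).hom rfl

theorem ov2Str_appTop (V : Over T) [IsAffine V.left.left] {B : Type u} [CommRing B]
    (f : Γ(V.left.left, ⊤) →+* B) (a : Γ(V.left.left, ⊤)) :
    (ov2Str V f).left.left.appTop a = spO V f (f a) :=
  str_ov V.left f a

/-- The map of an affine object over `V` to its spectrum. -/
def toOv2 {V W : Over T} [IsAffine V.left.left] (k : W ⟶ V) : W ⟶ ov2 V k.left.left.appTop.hom :=
  Over.homMk (ovLift V.left k.left.left.appTop.hom (Over.mk k.left) (RingHom.id _) (RingHom.id_comp _)).left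
    (show _ ≫ (ov V.left k.left.left.appTop.hom).hom ≫ V.hom = W.hom by
      rw [← Category.assoc, Over.w (ovLift V.left k.left.left.appTop.hom (Over.mk k.left) (RingHom.id _) (RingHom.id_comp _))]
      exact Over.w k)

theorem toOv2_spO {V W : Over T} [IsAffine V.left.left] (k : W ⟶ V) (b : Γ(W.left.left, ⊤)) :
    (toOv2 k).left.left.appTop (spO V k.left.left.appTop.hom b) = b :=
  ovLift_sp _ _ (Over.mk k.left) _ (RingHom.id_comp _) b

attribute [irreducible] ov2Map ov2Str toOv2 spO

theorem ofP_res (V : Over T) [IsAffine V.left.left] {B B' : Type u} [CommRing B] [CommRing B']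
    (f : Γ(V.left.left, ⊤) →+* B) (g : B →+* B') (P : Polynomial B) (hP : IsGL P) :
    ofP V (g.comp f) (P.map g) (hP.map g) = res (ov2Map V f g).left (ofP V f P hP) := by
  apply poly_ext
  rw [poly_res, poly_ofP, poly_ofP]
  ext i
  simp only [Polynomial.coeff_map]
  exact (ov2Map_spO V f g _).symm

theorem ofP_mul (V : Over T) [IsAffine V.left.left] {B : Type u} [CommRing B]
    (f : Γ(V.left.left, ⊤) →+* B) (P Q : Polynomial B) (hP : IsGL P) (hQ : IsGL Q) :
    ofP V f (P * Q) (hP.mul hQ) = ofP V f P hP + ofP V f Q hQ := by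
  apply poly_ext
  rw [poly_add, poly_ofP, poly_ofP, poly_ofP, Polynomial.map_mul]

theorem ofP_one (V : Over T) [IsAffine V.left.left] {B : Type u} [CommRing B]
    (f : Γ(V.left.left, ⊤) →+* B) : ofP V f 1 IsGL.one = 0 := by
  apply poly_ext
  rw [poly_ofP, poly_zero, Polynomial.map_one]

attribute [irreducible] ofP

/-- The natural family of a double-dual section at an affine object. -/
def fam (Φ : DD T) (V : Over T) [IsAffine V.left.left] : Fam Γ(V.left.left, ⊤) where
  val f P := famVal Φ V f P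
  nat {B B'} _ _ f g P hP := by
    refine (spO V (g.comp f)).injective ?_
    rw [sp_famVal Φ V _ (hP.map g), ← ov2Map_spO, sp_famVal Φ V f hP, ofP_res]
    exact val2_nat Φ _ _
  mul {B} _ f P Q hP hQ := by
    refine (spO V f).injective ?_
    rw [map_mul, sp_famVal Φ V f hP, sp_famVal Φ V f hQ, sp_famVal Φ V f (hP.mul hQ), ofP_mul V f P Q hP hQ]
    exact val2_add Φ _ _ _
  one {B} _ f := by
    refine (spO V f).injective ?_
    rw [map_one, sp_famVal Φ V f IsGL.one, ofP_one]
    exact val2_zero Φ _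

/-- `c` is the evaluation point of `Φ` near `V`. -/
def Sol (Φ : DD T) (V : Over T) (c : Γ(V.left.left, ⊤)) : Prop :=
  ∀ (W : Over T) [IsAffine W.left.left] (k : W ⟶ V) (χ : Chr W.left),
    val2 Φ W χ = (poly χ).eval (k.left.left.appTop c)

theorem exists_sol (Φ : DD T) (V : Over T) [IsAffine V.left.left] (h : Good Γ(V.left.left, ⊤)) :
    ∃ c, Sol Φ V c := by
  obtain ⟨c, hc⟩ := h (fam Φ V)
  refine ⟨c, fun W _ k χ => ?_⟩
  let f := k.left.left.appTop.hom
  have e : res (toOv2 k).left (ofP V f (poly χ) (poly_gl χ)) = χ := by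
    apply poly_ext
    rw [poly_res, poly_ofP]
    ext i
    simp only [Polynomial.coeff_map]
    exact toOv2_spO k _
  calc val2 Φ W χ = val2 Φ W (res (toOv2 k).left (ofP V f (poly χ) (poly_gl χ))) := by rw [e]
    _ = (toOv2 k).left.left.appTop (val2 Φ (ov2 V f) (ofP V f (poly χ) (poly_gl χ))) := val2_nat Φ (toOv2 k) _
    _ = (toOv2 k).left.left.appTop (spO V f (famVal Φ V f (poly χ))) := by rw [sp_famVal]
    _ = famVal Φ V f (poly χ) := toOv2_spO k _
    _ = (poly χ).eval (f c) := hc _ f _ (poly_gl χ)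

theorem Sol.unique {Φ : DD T} {V : Over T} [IsAffine V.left.left] {c c' : Γ(V.left.left, ⊤)}
    (h : Sol Φ V c) (h' : Sol Φ V c') : c = c' := by
  refine eq_of_eval_eq fun B _ f P hP => (spO V f).injective ?_
  have e := (h _ (ov2Str V f) (ofP V f P hP)).symm.trans (h' _ (ov2Str V f) (ofP V f P hP))
  rw [poly_ofP] at e
  rw [ov2Str_appTop, ov2Str_appTop] at e
  exact ((Polynomial.eval_map_apply (spO V f).toRingHom _).symm.trans e).trans
    (Polynomial.eval_map_apply (spO V f).toRingHom _)

theorem Sol.comp {Φ : DD T} {V V' : Over T} {c : Γ(V.left.left, ⊤)} (h : Sol Φ V c) (k : V' ⟶ V) :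
    Sol Φ V' (k.left.left.appTop c) := fun W _ k' χ => by
  rw [h W (k' ≫ k) χ, Over.comp_left, Over.comp_left, Scheme.Hom.comp_appTop]
  rfl

/-- Two solutions agree on a common affine. -/
theorem Sol.agree {Φ : DD T} {V V' W : Over T} [IsAffine W.left.left] {c : Γ(V.left.left, ⊤)}
    {c' : Γ(V'.left.left, ⊤)} (h : Sol Φ V c) (h' : Sol Φ V' c') (k : W ⟶ V) (k' : W ⟶ V') :
    k.left.left ≫ (Ga.gaPt (X := V.left) c).left = k'.left.left ≫ (Ga.gaPt (X := V'.left) c').left := by
  rw [← Over.comp_left, ← Over.comp_left]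
  refine congrArg CommaMorphism.left (Ga.gaFn_injective ?_)
  rw [Ga.gaFn_comp, Ga.gaFn_comp, Ga.gaFn_gaPt, Ga.gaFn_gaPt]
  exact (h.comp k).unique (h'.comp k')

/-- The evaluation at a point. -/
abbrev evalAt (x : T ⟶ Red.Ga X) : DD T :=
  (CGrpSh2.toDoubleDual Scheme.fppfPrecoverage (GaS X)).hom.app (op T) (ULift.up (Additive.ofMul x))

theorem sol_evalAt (x : T ⟶ Red.Ga X) (V : Over T) :
    Sol (evalAt x) V (Red.gaFn (V.hom ≫ x)) := fun W _ k χ => by
  rw [← Ga.gaFn_comp, ← Category.assoc, Over.w k]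
  have e : val2 (evalAt x) W χ = val χ (Over.mk (𝟙 W.left)) (Red.gaFn (W.hom ≫ x)) := by
    change Red.gmFn (X := W.left)
      (χ.hom.app (op (Over.mk (𝟙 W.left))) (ULift.up (Additive.ofMul (W.hom ≫ x)))).down.toMul = _
    exact congrArg (fun s => Red.gmFn (X := W.left) (χ.hom.app (op (Over.mk (𝟙 W.left))) s).down.toMul)
      (app_eq_el (Over.mk (𝟙 W.left)) (ULift.up (Additive.ofMul (W.hom ≫ x))))
  rw [e, val_eq, Polynomial.eval]
  exact congrArg (fun r => Polynomial.eval₂ r _ (poly χ)) (RingHom.ext fun a => by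
    change (𝟙 W.left : W.left ⟶ W.left).left.appTop a = a
    rw [Over.id_left, Scheme.Hom.id_appTop]; rfl)

/-- An open piece of `V` as an object over `V`. -/
abbrev pull {V : Over T} {W : Scheme.{u}} (j : W ⟶ V.left.left) : Over T :=
  Over.mk (Over.homMk j rfl ≫ V.hom : Over.mk (j ≫ V.left.hom) ⟶ T)

/-- The map to `V`. -/
abbrev pullHom {V : Over T} {W : Scheme.{u}} (j : W ⟶ V.left.left) : pull j ⟶ V :=
  Over.homMk (Over.homMk j rfl : Over.mk (j ≫ V.left.hom) ⟶ V.left) rfl

/-- An open piece of `T`. -/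
abbrev piece {W : Scheme.{u}} (j : W ⟶ T.left) : Over T :=
  Over.mk (Over.homMk j rfl : Over.mk (j ≫ T.hom) ⟶ T)

theorem pt_ext {U : Over T} {a b : U.left ⟶ Red.Gm X}
    (h : ∀ {W : Scheme.{u}} [IsAffine W] (j : W ⟶ U.left.left),
      (pullHom (V := U) j).left.left.appTop (Red.gmFn a) = (pullHom (V := U) j).left.left.appTop (Red.gmFn b)) :
    a = b := by
  refine Over.OverMorphism.ext (U.left.left.affineCover.hom_ext _ _ fun l => ?_)
  have e : (pullHom (V := U) (U.left.left.affineCover.f l)).left ≫ a =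
      (pullHom (V := U) (U.left.left.affineCover.f l)).left ≫ b := by
    apply Gm.gmFn_injective
    rw [Gm.gmFn_comp, Gm.gmFn_comp]
    exact h _
  exact congrArg CommaMorphism.left e

theorem dd_ext {Φ Ψ : DD T}
    (h : ∀ (W : Over T) [IsAffine W.left.left] (χ : Chr W.left), val2 Φ W χ = val2 Ψ W χ) : Φ = Ψ := by
  refine CategoryTheory.Sheaf.hom_ext (NatTrans.ext (funext fun U => AddCommGrpCat.ext fun χ => ?_))
  obtain ⟨U⟩ := U
  refine ULift.ext _ _ (congrArg Additive.ofMul (pt_ext (U := U) fun {W} _ j => ?_))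
  have : IsAffine (pull (V := U) j).left.left := ‹IsAffine W›
  exact (val2_nat Φ (pullHom (V := U) j) χ).symm.trans
    ((h _ _).trans (val2_nat Ψ (pullHom (V := U) j) χ))

theorem toDoubleDual_app_bijective (hgood : ∀ V : Over X, IsAffine V.left → Good Γ(V.left, ⊤)) (T : Over X) :
    Function.Bijective ((CGrpSh2.toDoubleDual Scheme.fppfPrecoverage (GaS X)).hom.app (op T)) := by
  constructor
  · intro s t hst
    refine ULift.ext _ _ (congrArg Additive.ofMul
      (?_ : (s.down.toMul : T ⟶ Red.Ga X) = t.down.toMul))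
    have hΦ : evalAt s.down.toMul = evalAt t.down.toMul := hst
    refine Over.OverMorphism.ext (T.left.affineCover.hom_ext _ _ fun i => ?_)
    let V := piece (T.left.affineCover.f i)
    have : IsAffine V.left.left := inferInstanceAs (IsAffine (T.left.affineCover.X i))
    have hs := sol_evalAt s.down.toMul V
    rw [hΦ] at hs
    exact congrArg CommaMorphism.left (Ga.gaFn_injective (hs.unique (sol_evalAt t.down.toMul V)))
  · intro Φ
    let 𝒰 := T.left.affineCover
    let V := fun i => piece (𝒰.f i)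
    have hV : ∀ i, IsAffine (V i).left.left := fun i => inferInstanceAs (IsAffine (𝒰.X i))
    choose c hc using fun i => exists_sol Φ (V i) (hgood (V i).left (hV i))
    have compat : ∀ i j, Limits.pullback.fst (𝒰.f i) (𝒰.f j) ≫ (Ga.gaPt (X := (V i).left) (c i)).left =
        Limits.pullback.snd (𝒰.f i) (𝒰.f j) ≫ (Ga.gaPt (X := (V j).left) (c j)).left := by
      intro i j
      let P := Limits.pullback (𝒰.f i) (𝒰.f j)
      refine P.affineCover.hom_ext _ _ fun l => ?_
      let W := piece (T := T) (P.affineCover.f l ≫ Limits.pullback.fst (𝒰.f i) (𝒰.f j) ≫ 𝒰.f i)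
      let k₁ : W ⟶ V i := Over.homMk
        (Over.homMk (P.affineCover.f l ≫ Limits.pullback.fst (𝒰.f i) (𝒰.f j))
          (by simp [W, V, piece, Category.assoc]))
        (Over.OverMorphism.ext (by simp [W, V, piece, Category.assoc]))
      let k₂ : W ⟶ V j := Over.homMk
        (Over.homMk (P.affineCover.f l ≫ Limits.pullback.snd (𝒰.f i) (𝒰.f j))
          (by simp [W, V, piece, Category.assoc, Limits.pullback.condition_assoc]))
        (Over.OverMorphism.ext (by simp [W, V, piece, Category.assoc, Limits.pullback.condition]))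
      haveI : IsAffine W.left.left := inferInstanceAs (IsAffine (P.affineCover.X l))
      rw [← Category.assoc, ← Category.assoc]
      exact (hc i).agree (hc j) k₁ k₂
    let xl : T.left ⟶ (Red.Ga X).left := 𝒰.glueMorphisms _ compat
    have hx : xl ≫ (Red.Ga X).hom = T.hom := 𝒰.hom_ext _ _ fun i => by
      rw [← Category.assoc, Scheme.Cover.ι_glueMorphisms]
      exact Over.w _
    let x : T ⟶ Red.Ga X := Over.homMk xl hx
    refine ⟨ULift.up (Additive.ofMul x), ?_⟩
    have hVi : ∀ i, Red.gaFn ((V i).hom ≫ x) = c i := fun i => by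
      have : (V i).hom ≫ x = Ga.gaPt (c i) :=
        Over.OverMorphism.ext (Scheme.Cover.ι_glueMorphisms 𝒰 _ compat i)
      rw [this, Ga.gaFn_gaPt]
    -- the point is the solution everywhere
    have hsol : ∀ (U : Over T) [IsAffine U.left.left], Sol Φ U (Red.gaFn (U.hom ≫ x)) := by
      intro U _
      obtain ⟨d, hd⟩ := exists_sol Φ U (hgood U.left ‹_›)
      suffices h : U.hom ≫ x = Ga.gaPt (X := U.left) d by rw [h, Ga.gaFn_gaPt]; exact hd
      refine Over.OverMorphism.ext (Scheme.Cover.hom_ext (𝒰.pullback₁ U.hom.left) _ _ fun i => ?_)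
      let P := Limits.pullback U.hom.left (𝒰.f i)
      change Limits.pullback.fst U.hom.left (𝒰.f i) ≫ (U.hom ≫ x).left =
        Limits.pullback.fst U.hom.left (𝒰.f i) ≫ (Ga.gaPt (X := U.left) d).left
      refine P.affineCover.hom_ext _ _ fun l => ?_
      let W := pull (V := U) (P.affineCover.f l ≫ Limits.pullback.fst U.hom.left (𝒰.f i))
      let k₂ : W ⟶ V i := Over.homMk
        (Over.homMk (P.affineCover.f l ≫ Limits.pullback.snd U.hom.left (𝒰.f i))
          (by
            change (_ ≫ _) ≫ 𝒰.f i ≫ T.hom = (_ ≫ _) ≫ U.left.hom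
            rw [Category.assoc, ← Limits.pullback.condition_assoc, Over.w U.hom, Category.assoc]))
        (Over.OverMorphism.ext (by
          change (_ ≫ _) ≫ 𝒰.f i = (_ ≫ _) ≫ U.hom.left
          rw [Category.assoc, ← Limits.pullback.condition, Category.assoc]))
      haveI : IsAffine W.left.left := inferInstanceAs (IsAffine (P.affineCover.X l))
      rw [← Category.assoc, ← Category.assoc]
      refine Eq.trans ?_ ((hc i).agree hd k₂ (pullHom (V := U) _))
      change (_ ≫ _) ≫ U.hom.left ≫ xl = (_ ≫ _) ≫ (Ga.gaPt (X := (V i).left) (c i)).left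
      rw [Category.assoc, Limits.pullback.condition_assoc, Category.assoc]
      exact congrArg (fun z => P.affineCover.f l ≫ Limits.pullback.snd U.hom.left (𝒰.f i) ≫ z)
        (Scheme.Cover.ι_glueMorphisms 𝒰 _ compat i)
    refine dd_ext (fun W _ χ => ?_)
    rw [sol_evalAt x W W (𝟙 W) χ, hsol W W (𝟙 W) χ]

/-- The double duality map of `𝔾_a` is an isomorphism. -/
theorem isIso_toDoubleDual (hgood : ∀ V : Over X, IsAffine V.left → Good Γ(V.left, ⊤)) :
    IsIso (CGrpSh2.toDoubleDual Scheme.fppfPrecoverage (GaS X)) := by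
  have : ∀ T, IsIso ((CGrpSh2.toDoubleDual Scheme.fppfPrecoverage (GaS X)).hom.app T) := by
    rintro ⟨T⟩
    rw [ConcreteCategory.isIso_iff_bijective]
    exact toDoubleDual_app_bijective hgood T
  have : IsIso (CGrpSh2.toDoubleDual Scheme.fppfPrecoverage (GaS X)).hom := NatIso.isIso_of_isIso_app _
  haveI : IsIso ((sheafToPresheaf _ _).map (CGrpSh2.toDoubleDual Scheme.fppfPrecoverage (GaS X))) := this
  exact isIso_of_reflects_iso _ (sheafToPresheaf _ _)

end

end Groth.Agent.Lib.GaBidual62
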